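import Mathlib
import Cfsg.Agent.Lib.Helper44.FW.Defs

/-!
# FW [INVOL]: the involutions of `C(j)`
-/

set_option autoImplicit false

namespace Cfsg.Agent.Lib.Helper61.FW

open Cfsg.Agent.Lib.Helper44.FW

universe u

/-- **[INVOL]** -/
theorem pkgInvol : PkgInvol.{u} := by
  intro G _ L₁ L₂ j n h h1 h2 r hrC hr2 hr1 hrj
  have hj2 : j ^ 2 = 1 := by rw [← h.ord]; exact pow_orderOf_eq_one j
  have hj1 : j ≠ 1 := by
    intro hj
    have := h.ord
    rw [hj, orderOf_one] at this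
    omega
  have hjj : j * j = 1 := by rw [← pow_two]; exact hj2
  have hjinv : j⁻¹ = j := inv_eq_of_mul_eq_one_right hjj
  have hjL : j ∈ L₁ ⊓ L₂ := by rw [h.meet]; exact Subgroup.mem_zpowers j
  have hjL1 : j ∈ L₁ := (Subgroup.mem_inf.mp hjL).1
  have hjL2 : j ∈ L₂ := (Subgroup.mem_inf.mp hjL).2
  have hz : ∀ x : G, x ∈ L₁ → x ∈ L₂ → x = 1 ∨ x = j := by
    intro x hx1 hx2
    have hx : x ∈ Subgroup.zpowers j := by rw [← h.meet]; exact Subgroup.mem_inf.mpr ⟨hx1, hx2⟩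
    obtain ⟨k, rfl⟩ := Subgroup.mem_zpowers_iff.mp hx
    rcases Int.even_or_odd' k with ⟨m, rfl | rfl⟩
    · left; rw [zpow_mul, zpow_two, hjj, one_zpow]
    · right; rw [zpow_add, zpow_one, zpow_mul, zpow_two, hjj, one_zpow, one_mul]
  have hcent : ∀ g : G, g ∈ Subgroup.centralizer ({j} : Set G) → j * g = g * j := fun g hg =>
    (Subgroup.mem_centralizer_iff.mp hg) j (Set.mem_singleton j)
  have hL1C : ∀ x ∈ L₁, j * x = x * j := fun x hx => hcent x (h.le (Subgroup.mem_sup_left hx))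
  have hnj : j * n = n * j := hcent n h.hn
  have hcm' : ∀ (s : L₁) (x : L₂), Commute (L₁.subtype s) (L₂.subtype x) :=
    fun s x => h.comm s s.2 x x.2
  have hrange : (MonoidHom.noncommCoprod L₁.subtype L₂.subtype hcm').range = L₁ ⊔ L₂ := by
    rw [MonoidHom.noncommCoprod_range, Subgroup.range_subtype, Subgroup.range_subtype]
  have hY : ∀ w ∈ L₁ ⊔ L₂, ∃ x ∈ L₁, ∃ y ∈ L₂, w = x * y := by
    intro w hw
    rw [← hrange] at hw
    obtain ⟨⟨s, x⟩, hsx⟩ := hw
    have hsx' : (s : G) * (x : G) = w := hsx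
    exact ⟨s, s.2, x, x.2, hsx'.symm⟩
  have hswap : ∀ a ∈ L₁, n * a * n⁻¹ ∈ L₂ := by
    intro a ha
    rw [← h.swap]
    exact Subgroup.mem_map.mpr ⟨a, ha, by simp [MulAut.conj_apply]⟩
  have hswap' : ∀ v ∈ L₂, ∃ a ∈ L₁, v = n * a * n⁻¹ := by
    intro v hv
    rw [← h.swap] at hv
    obtain ⟨a, ha, hav⟩ := Subgroup.mem_map.mp hv
    exact ⟨a, ha, by rw [← hav]; simp [MulAut.conj_apply]⟩
  have hnjn : n * j * n⁻¹ = j := by
    calc n * j * n⁻¹ = (n * j) * n⁻¹ := rfl
      _ = (j * n) * n⁻¹ := by rw [hnj]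
      _ = j := by group
  have hnY : n ∉ L₁ ⊔ L₂ := by
    intro hn
    obtain ⟨x, hx, y, hy, hnxy⟩ := hY n hn
    have hL1 : ∀ a ∈ L₁, a = 1 ∨ a = j := by
      intro a ha
      have h1' : n * a * n⁻¹ ∈ L₂ := hswap a ha
      have h2' : n * a * n⁻¹ ∈ L₁ := by
        have : n * a * n⁻¹ = x * a * x⁻¹ := by
          rw [hnxy]
          have hya : y * a = a * y := (h.comm a ha y hy).symm
          calc x * y * a * (x * y)⁻¹ = x * (y * a) * y⁻¹ * x⁻¹ := by group
            _ = x * (a * y) * y⁻¹ * x⁻¹ := by rw [hya]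
            _ = x * a * x⁻¹ := by group
        rw [this]; exact L₁.mul_mem (L₁.mul_mem hx ha) (L₁.inv_mem hx)
      have ha' : a = n⁻¹ * (n * a * n⁻¹) * n := by group
      rcases hz _ h2' h1' with h3 | h3
      · left
        rw [ha', h3]; group
      · right
        rw [ha', h3]
        calc n⁻¹ * j * n = n⁻¹ * (j * n) := by group
          _ = n⁻¹ * (n * j) := by rw [hnj]
          _ = j := by group
    have hxx : x = 1 ∨ x = j := hL1 x hx
    have hyy : y = 1 ∨ y = j := by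
      obtain ⟨a, ha, hya⟩ := hswap' y hy
      rcases hL1 a ha with h3 | h3
      · left; rw [hya, h3]; group
      · right; rw [hya, h3]; exact hnjn
    have hn1 : n ^ 2 = 1 := by
      rw [hnxy]
      rcases hxx with h3 | h3 <;> rcases hyy with h4 | h4
      · rw [h3, h4]; simp
      · rw [h3, h4, one_mul]; exact hj2
      · rw [h3, h4, mul_one]; exact hj2
      · rw [h3, h4, hjj]; simp
    rw [h.hn2] at hn1
    exact hj1 hn1
  have hidx : ((L₁ ⊔ L₂).subgroupOf (Subgroup.centralizer ({j} : Set G))).index = 2 := h.idx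
  have hcoset : ∀ g ∈ Subgroup.centralizer ({j} : Set G), g ∉ L₁ ⊔ L₂ →
      n⁻¹ * g ∈ L₁ ⊔ L₂ := by
    intro g hg hgY
    have hninv : n⁻¹ ∈ Subgroup.centralizer ({j} : Set G) := Subgroup.inv_mem _ h.hn
    have key := Subgroup.mul_mem_iff_of_index_two hidx (a := ⟨n⁻¹, hninv⟩) (b := ⟨g, hg⟩)
    rw [Subgroup.mem_subgroupOf, Subgroup.mem_subgroupOf, Subgroup.mem_subgroupOf] at key
    have hn' : n⁻¹ ∉ L₁ ⊔ L₂ := fun hh => hnY (by simpa using Subgroup.inv_mem _ hh)
    exact key.mpr ⟨fun hh => absurd hh hn', fun hh => absurd hh hgY⟩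
  by_cases hrY : r ∈ L₁ ⊔ L₂
  · obtain ⟨x, hx, y, hy, hrxy⟩ := hY r hrY
    have hxy : x * y = y * x := h.comm x hx y hy
    have hsq : x ^ 2 * y ^ 2 = 1 := by
      rw [← hr2, hrxy, (show Commute x y from hxy).mul_pow]
    have hx2L2 : x ^ 2 ∈ L₂ := by
      have : x ^ 2 = (y ^ 2)⁻¹ := eq_inv_of_mul_eq_one_left hsq
      rw [this]; exact L₂.inv_mem (L₂.pow_mem hy 2)
    rcases hz (x ^ 2) (L₁.pow_mem hx 2) hx2L2 with hx2 | hx2
    · exfalso
      have hy2 : y ^ 2 = 1 := by rw [hx2, one_mul] at hsq; exact hsq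
      rcases h1 x hx hx2 with h3 | h3 <;> rcases h2 y hy hy2 with h4 | h4
      · exact hr1 (by rw [hrxy, h3, h4, one_mul])
      · exact hrj (by rw [hrxy, h3, h4, one_mul])
      · exact hrj (by rw [hrxy, h3, h4, mul_one])
      · exact hr1 (by rw [hrxy, h3, h4, hjj])
    · refine ⟨x, hx, y, hy, hrxy, hx2, ?_⟩
      rw [hx2] at hsq
      have : y ^ 2 = j⁻¹ := eq_inv_of_mul_eq_one_right hsq
      rw [this, hjinv]
  · exfalso
    have hw := hcoset r hrC hrY
    obtain ⟨u, hu, v, hv, hwuv⟩ := hY _ hw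
    obtain ⟨a, ha, hva⟩ := hswap' v hv
    have hr_eq : r = n * (u * (n * a * n⁻¹)) := by
      rw [← hva, ← hwuv]; group
    have hrr : r * r = 1 := by rw [← pow_two]; exact hr2
    have key : u * (n * (a * u) * n⁻¹) * n ^ 2 * a = 1 := by
      have e : n⁻¹ * (r * r) * n = u * (n * (a * u) * n⁻¹) * (n * n) * a := by
        rw [hr_eq]; group
      rw [pow_two, ← e, hrr]; group
    rw [h.hn2] at key
    have hy₁L : n * (a * u) * n⁻¹ ∈ L₂ := hswap (a * u) (L₁.mul_mem ha hu)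
    have hyj : n * (a * u) * n⁻¹ * j ∈ L₂ := L₂.mul_mem hy₁L hjL2
    have hcomm1 : a * (n * (a * u) * n⁻¹ * j) = (n * (a * u) * n⁻¹ * j) * a := h.comm a ha _ hyj
    have key2 : (u * a) * (n * (a * u) * n⁻¹ * j) = 1 := by
      calc (u * a) * (n * (a * u) * n⁻¹ * j) = u * (a * (n * (a * u) * n⁻¹ * j)) := by group
        _ = u * ((n * (a * u) * n⁻¹ * j) * a) := by rw [hcomm1]
        _ = u * (n * (a * u) * n⁻¹) * j * a := by group
        _ = 1 := key
    have hua1 : u * a ∈ L₁ := L₁.mul_mem hu ha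
    have hua2 : u * a ∈ L₂ := by
      have : u * a = (n * (a * u) * n⁻¹ * j)⁻¹ := eq_inv_of_mul_eq_one_left key2
      rw [this]; exact L₂.inv_mem hyj
    have hau' : a * u = u⁻¹ * (u * a) * u := by group
    rcases hz _ hua1 hua2 with he | he
    · have hau : a * u = 1 := by rw [hau', he]; group
      rw [he, hau] at key2
      have : j = 1 := by
        have e2 : (1 : G) * (n * 1 * n⁻¹ * j) = j := by group
        rw [← e2]; exact key2
      exact hj1 this
    · have hau : a * u = j := by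
        rw [hau', he]
        calc u⁻¹ * j * u = u⁻¹ * (j * u) := by group
          _ = u⁻¹ * (u * j) := by rw [hL1C u hu]
          _ = j := by group
      rw [he, hau, hnjn, hjj, mul_one] at key2
      exact hj1 key2

end Cfsg.Agent.Lib.Helper61.FW
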